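import Groth.Agent.SSMod.K807.Iface3

/-!
# The chart `u = ϖ^α ℓ`, `ϖ^α ℓ = c + ϖ^m X` is étale on the generic fibre (node H)
-/

set_option autoImplicit false
universe u
open CategoryTheory CategoryTheory.Limits AlgebraicGeometry IsLocalRing
open Groth.Agent.Models.NodeRing

namespace K4.ChartEta

/-- `d^k p(X)` is a polynomial in `c + d X` for `k` large. -/
theorem exists_comp {R : Type u} [CommRing R] (c d : R) (p : Polynomial R) :
    ∃ (k : ℕ) (q : Polynomial R), Polynomial.C (d ^ k) * p = q.comp (Polynomial.C c + Polynomial.C d * Polynomial.X) := by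
  induction p using Polynomial.induction_on' with
  | add p q hp hq =>
    obtain ⟨k, p', hp'⟩ := hp
    obtain ⟨l, q', hq'⟩ := hq
    refine ⟨k + l, Polynomial.C (d ^ l) * p' + Polynomial.C (d ^ k) * q', ?_⟩
    rw [Polynomial.add_comp, Polynomial.mul_comp, Polynomial.mul_comp, Polynomial.C_comp, Polynomial.C_comp, ← hp',
      ← hq', pow_add, map_mul]
    ring
  | monomial n r =>
    refine ⟨n, Polynomial.C r * (Polynomial.X - Polynomial.C c) ^ n, ?_⟩
    rw [Polynomial.mul_comp, Polynomial.C_comp, Polynomial.pow_comp, Polynomial.sub_comp, Polynomial.X_comp,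
      Polynomial.C_comp, add_sub_cancel_left, mul_pow, ← Polynomial.C_mul_X_pow_eq_monomial, ← map_pow]
    ring

theorem lin_coeff {R : Type u} [CommRing R] (c d e : R) :
    Polynomial.C c + Polynomial.C d * Polynomial.X = Polynomial.C e → d = 0 := by
  intro h
  have h1 := congrArg (fun q => Polynomial.coeff q 1) h
  simpa only [Polynomial.coeff_add, Polynomial.coeff_C_succ, Polynomial.coeff_C_mul, Polynomial.coeff_X_one,
    mul_one, zero_add] using h1

/-- The ring `R[X][1/ℓ][1/ϖ]` is the localization of `R[u,v]/(uv - a)` away from `u ϖ`. -/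
theorem isLoc {R : Type u} [CommRing R] [IsDomain R] (ϖ a c : R) (α m : ℕ) (hϖ : ϖ ≠ 0) (ℓ : Polynomial R)
    (hℓ : Polynomial.C (ϖ ^ α) * ℓ = Polynomial.C c + Polynomial.C (ϖ ^ m) * Polynomial.X)
    {L : Type u} [CommRing L] (i : Polynomial R →+* L) (hi : Function.Injective i)
    (hu1 : IsUnit (i ℓ)) (hu2 : IsUnit (i (Polynomial.C ϖ)))
    (hs : ∀ z : L, ∃ (I J : ℕ) (p : Polynomial R), z * i (Polynomial.C ϖ) ^ I * i ℓ ^ J = i p)
    (ψ : W R a →+* L) (hψr : ∀ r, ψ (algebraMap R (W R a) r) = i (Polynomial.C r))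
    (hψu : ψ (uu R a) = i (Polynomial.C (ϖ ^ α) * ℓ)) :
    @IsLocalization.Away (W R a) _ (uu R a * algebraMap R (W R a) ϖ) L _ ψ.toAlgebra := by
  let _ : Algebra (W R a) L := ψ.toAlgebra
  have hψu' : ψ (uu R a) = i (Polynomial.C ϖ) ^ α * i ℓ := by
    rw [hψu, map_mul, map_pow, map_pow]
  have haeval : ∀ q : Polynomial R, ψ (Polynomial.aeval (uu R a) q) =
      i (q.comp (Polynomial.C c + Polynomial.C (ϖ ^ m) * Polynomial.X)) := by
    intro q
    induction q using Polynomial.induction_on' with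
    | add p q hp hq => rw [map_add, map_add, hp, hq, Polynomial.add_comp, map_add]
    | monomial n r =>
      rw [Polynomial.aeval_monomial, map_mul, map_pow, hψu, hψr, Polynomial.monomial_comp, ← map_pow, ← map_mul, hℓ]
  have hunitu : IsUnit (ψ (uu R a)) := by
    rw [hψu']
    exact (hu2.pow α).mul hu1
  refine ⟨?_, ?_, ?_⟩
  · rintro ⟨_, n, rfl⟩
    change IsUnit (ψ ((uu R a * algebraMap R (W R a) ϖ) ^ n))
    rw [map_pow, map_mul, hψr]
    exact (hunitu.mul hu2).pow n
  · intro z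
    obtain ⟨I, J, p, hp⟩ := hs z
    obtain ⟨k, q, hq⟩ := exists_comp c (ϖ ^ m) p
    refine ⟨⟨Polynomial.aeval (uu R a) q * (uu R a) ^ (I + m * k) * algebraMap R (W R a) ϖ ^ (α * J + J),
      ⟨_, I + m * k + J, rfl⟩⟩, ?_⟩
    change z * ψ ((uu R a * algebraMap R (W R a) ϖ) ^ (I + m * k + J)) = ψ _
    have h1 : ψ (Polynomial.aeval (uu R a) q) = i (Polynomial.C ϖ) ^ (m * k) *
        (z * i (Polynomial.C ϖ) ^ I * i ℓ ^ J) := by
      rw [haeval, ← hq, map_mul, hp, ← map_pow, ← map_pow, ← pow_mul]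
    rw [map_mul, map_mul, map_pow, map_pow, map_pow, map_mul, h1, hψr, hψu']
    ring
  · intro x y hxy
    change ψ x = ψ y at hxy
    obtain ⟨n, p, hp⟩ := exists_mul_pow_eq R a (x - y)
    have h1 : ψ (Polynomial.aeval (uu R a) p) = 0 := by
      rw [← hp, map_mul, map_sub, hxy, sub_self, zero_mul]
    rw [haeval] at h1
    have h2 : p.comp (Polynomial.C c + Polynomial.C (ϖ ^ m) * Polynomial.X) = 0 := by
      apply hi
      rw [h1, map_zero]
    have h3 : p = 0 := by
      rcases Polynomial.comp_eq_zero_iff.1 h2 with h | ⟨_, h⟩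
      · exact h
      · exact absurd (lin_coeff _ _ _ h) (pow_ne_zero m hϖ)
    rw [h3, map_zero] at hp
    refine ⟨⟨_, n, rfl⟩, ?_⟩
    change (uu R a * algebraMap R (W R a) ϖ) ^ n * x = (uu R a * algebraMap R (W R a) ϖ) ^ n * y
    rw [mul_pow]
    linear_combination (algebraMap R (W R a) ϖ) ^ n * hp

/-- If `A → B[1/ϖ]` is a localization away from one element, `Spec B → Spec A` is étale on `D(ϖ)`. -/
theorem exists_open {A B : Type u} [CommRing A] [CommRing B] (θ : A →+* B) (ϖ : B) (f : A)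
    (h : @IsLocalization.Away A _ f (Localization.Away ϖ) _
      (((algebraMap B (Localization.Away ϖ)).comp θ).toAlgebra)) :
    ∃ O : (Spec (CommRingCat.of B)).Opens, (∀ x : PrimeSpectrum B, ϖ ∉ x.asIdeal → x ∈ O) ∧
      Etale (O.ι ≫ Spec.map (CommRingCat.ofHom θ)) := by
  refine ⟨PrimeSpectrum.basicOpen ϖ, fun x hx => hx, ?_⟩
  have h1 := basicOpenIsoSpecAway_hom_SpecMap (R := CommRingCat.of B) ϖ
  have h2 : Scheme.Opens.ι (X := Spec (CommRingCat.of B)) (PrimeSpectrum.basicOpen ϖ) ≫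
      Spec.map (CommRingCat.ofHom θ) = (basicOpenIsoSpecAway (R := CommRingCat.of B) ϖ).hom ≫
        Spec.map (CommRingCat.ofHom ((algebraMap B (Localization.Away ϖ)).comp θ)) := by
    rw [← h1, Category.assoc, ← Spec.map_comp]
    rfl
  rw [h2]
  let _ : Algebra A (Localization.Away ϖ) := ((algebraMap B (Localization.Away ϖ)).comp θ).toAlgebra
  have h3 : IsOpenImmersion (Spec.map (CommRingCat.ofHom (algebraMap A (Localization.Away ϖ)))) :=
    IsOpenImmersion.of_isLocalization f
  have h4 : IsOpenImmersion (Spec.map (CommRingCat.ofHom ((algebraMap B (Localization.Away ϖ)).comp θ))) := h3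
  infer_instance

theorem main : K807.Iface.ChartEta.{u} := by
  intro R _ _ _ ϖ hϖ a a' c α m ℓ ha hℓ θ hθ hu hv
  apply exists_open θ (algebraMap R (Localization.Away ℓ) ϖ) (uu R a * algebraMap R (W R a) ϖ)
  have hϖ0 : ϖ ≠ 0 := hϖ.ne_zero
  have hℓ0 : ℓ ≠ 0 := by
    intro h
    rw [h, mul_zero] at hℓ
    exact pow_ne_zero m hϖ0 (lin_coeff c (ϖ ^ m) 0 (by rw [← hℓ, map_zero]))
  have hinj : Function.Injective (algebraMap (Polynomial R) (Localization.Away ℓ)) :=
    IsLocalization.injective _ (powers_le_nonZeroDivisors_of_noZeroDivisors hℓ0)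
  have hdom : IsDomain (Localization.Away ℓ) :=
    IsLocalization.isDomain_localization (powers_le_nonZeroDivisors_of_noZeroDivisors hℓ0)
  have hRB : ∀ r : R, algebraMap R (Localization.Away ℓ) r = algebraMap (Polynomial R) (Localization.Away ℓ) (Polynomial.C r) :=
    fun r => IsScalarTower.algebraMap_apply R (Polynomial R) (Localization.Away ℓ) r
  have hϖB : algebraMap R (Localization.Away ℓ) ϖ ≠ 0 := by
    rw [hRB, map_ne_zero_iff _ hinj]
    exact Polynomial.C_ne_zero.2 hϖ0
  have hinj2 : Function.Injective (algebraMap (Localization.Away ℓ)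
      (Localization.Away (algebraMap R (Localization.Away ℓ) ϖ))) :=
    IsLocalization.injective _ (powers_le_nonZeroDivisors_of_noZeroDivisors hϖB)
  have hu0 : IsUnit (algebraMap (Polynomial R) (Localization.Away ℓ) ℓ) := IsLocalization.Away.algebraMap_isUnit ℓ
  have hu1 := hu0.map (algebraMap (Localization.Away ℓ) (Localization.Away (algebraMap R (Localization.Away ℓ) ϖ)))
  refine isLoc ϖ a c α m hϖ0 ℓ hℓ ((algebraMap (Localization.Away ℓ)
      (Localization.Away (algebraMap R (Localization.Away ℓ) ϖ))).comp (algebraMap (Polynomial R) (Localization.Away ℓ)))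
    (hinj2.comp hinj) hu1 ?_ ?_ _ ?_ ?_
  · rw [RingHom.comp_apply, ← hRB]
    exact IsLocalization.Away.algebraMap_isUnit _
  · intro z
    obtain ⟨⟨b, ⟨_, I, rfl⟩⟩, hb⟩ := IsLocalization.surj (Submonoid.powers (algebraMap R (Localization.Away ℓ) ϖ)) z
    obtain ⟨⟨p, ⟨_, J, rfl⟩⟩, hp⟩ := IsLocalization.surj (Submonoid.powers ℓ) b
    simp only at hb hp
    refine ⟨I, J, p, ?_⟩
    rw [RingHom.comp_apply, RingHom.comp_apply, RingHom.comp_apply, ← hRB, ← hp, map_mul, ← hb, map_pow, map_pow,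
      map_pow]
  · intro r
    rw [RingHom.comp_apply, RingHom.comp_apply, hθ, ← hRB]
  · rw [RingHom.comp_apply, RingHom.comp_apply, hu]

end K4.ChartEta
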