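import Groth.Agent.SSMod.K807.Iface3
import Mathlib.RingTheory.Flat.EquationalCriterion

/-!
# Flat maps from `R[u,v]/(uv - a)` to fields (node J of the discrete valuation ring case of S15273)
-/

set_option autoImplicit false
universe u
open IsLocalRing
open Groth.Agent.Models.NodeRing

namespace K4.FlatAlg

/-- If `ρ : A → F` is flat, `F` a field, and `ρ x = 0`, some annihilator of `x` is not killed by `ρ`. -/
theorem exists_ann {A F : Type u} [CommRing A] [Field F] {ρ : A →+* F} (hρ : ρ.Flat) {x : A} (hx : ρ x = 0) :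
    ∃ y : A, x * y = 0 ∧ ρ y ≠ 0 := by
  let _ : Algebra A F := ρ.toAlgebra
  have : Module.Flat A F := hρ
  have h : ∑ i : Fin 1, (fun _ => x) i • (fun _ => (1 : F)) i = 0 := by
    simp only [Finset.univ_unique, Finset.sum_const, Finset.card_singleton, one_smul]
    rw [Algebra.smul_def]
    change ρ x * 1 = 0
    rw [hx, zero_mul]
  obtain ⟨k, a, y, h1, h2⟩ := Module.Flat.isTrivialRelation_of_sum_smul_eq_zero h
  have h3 : (1 : F) = ∑ j, a 0 j • y j := h1 0
  have h4 : ∃ j, ρ (a 0 j) ≠ 0 := by
    by_contra hc
    push Not at hc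
    refine one_ne_zero (α := F) ?_
    rw [h3]
    refine Finset.sum_eq_zero fun j _ => ?_
    rw [Algebra.smul_def]
    change ρ (a 0 j) * _ = 0
    rw [hc j, zero_mul]
  obtain ⟨j, hj⟩ := h4
  refine ⟨a 0 j, ?_, hj⟩
  simpa using h2 j

/-- In `R[u,v]/(uv)` an element is a polynomial in `u` plus a multiple of `v`. -/
theorem exists_rep {R : Type u} [CommRing R] {a : R} (w : W R a) :
    ∃ (p : Polynomial R) (w' : W R a), w = Polynomial.aeval (uu R a) p + vv R a * w' := by
  induction w using induction with
  | hC d => exact ⟨Polynomial.C d, 0, by simp⟩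
  | hadd x y hx hy =>
    obtain ⟨p, x', hp⟩ := hx
    obtain ⟨q, y', hq⟩ := hy
    exact ⟨p + q, x' + y', by rw [hp, hq, map_add]; ring⟩
  | hu x hx =>
    obtain ⟨p, x', hp⟩ := hx
    exact ⟨p * Polynomial.X, x' * uu R a, by rw [hp, map_mul, Polynomial.aeval_X]; ring⟩
  | hv x hx =>
    exact ⟨0, x, by rw [map_zero, zero_add, mul_comm]⟩

/-- In `R[u,v]/(uv)` the annihilator of `u` is generated by `v`. -/
theorem dvd_of_uu_mul {R : Type u} [CommRing R] {a : R} (ha : a = 0) {y : W R a} (h : uu R a * y = 0) :
    vv R a ∣ y := by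
  obtain ⟨p, w', hp⟩ := exists_rep y
  let φ : W R a →+* Polynomial R := lift Polynomial.C Polynomial.X 0 (by rw [ha, map_zero, mul_zero])
  have h1 : ∀ q : Polynomial R, φ (Polynomial.aeval (uu R a) q) = q := by
    intro q
    induction q using Polynomial.induction_on' with
    | add p q hp hq => rw [map_add, map_add, hp, hq]
    | monomial n d =>
      rw [Polynomial.aeval_monomial, map_mul, map_pow]
      simp only [φ, lift_algebraMap, lift_uu]
      rw [Polynomial.C_mul_X_pow_eq_monomial]
  have h2 : φ (vv R a) = 0 := by simp [φ]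
  have h3 : φ (uu R a) = Polynomial.X := by simp [φ]
  have h4 : (Polynomial.X : Polynomial R) * p = 0 := by
    have h5 := congrArg φ h
    rw [hp, map_mul, map_add, map_mul, h1, h2, h3, map_zero] at h5
    simpa using h5
  have h5 : p = 0 := by
    ext n
    have h6 := congrArg (fun q => Polynomial.coeff q (n + 1)) h4
    simpa using h6
  refine ⟨w', ?_⟩
  rw [hp, h5, map_zero, zero_add]

theorem main : K807.Iface.FlatAlg.{u} := by
  intro R _ _ _ ϖ hϖ a ha F _ ρ hρ hρϖ
  have hc : ∀ c : R, c ≠ 0 → ρ (algebraMap R (W R a) c) ≠ 0 := by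
    intro c hc
    obtain ⟨n, e⟩ := IsDiscreteValuationRing.associated_pow_irreducible hc hϖ
    obtain ⟨w, hw⟩ := e
    intro h0
    have h1 : ρ (algebraMap R (W R a) (ϖ ^ n)) = 0 := by
      rw [← hw, map_mul, map_mul, h0, zero_mul]
    rw [map_pow, map_pow] at h1
    exact pow_ne_zero n hρϖ h1
  refine ⟨?_, ?_⟩
  · by_contra hcon
    push Not at hcon
    obtain ⟨hu, hv⟩ := hcon
    have h0 : ρ (algebraMap R (W R a) a) = 0 := by
      rw [← uu_mul_vv, map_mul, hu, zero_mul]
    have ha0 : a = 0 := by
      by_contra h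
      exact hc a h h0
    obtain ⟨y, hy, hρy⟩ := exists_ann hρ hu
    obtain ⟨z, rfl⟩ := dvd_of_uu_mul ha0 hy
    rw [map_mul, hv, zero_mul] at hρy
    exact hρy rfl
  · intro c hc0 h
    have h1 : ρ (uu R a - algebraMap R (W R a) c) = 0 := by rw [map_sub, h, sub_self]
    obtain ⟨y, hy, hρy⟩ := exists_ann hρ h1
    have hX : (Polynomial.X : Polynomial R) ≠ 0 := Polynomial.X_ne_zero
    have hdom : IsDomain (Localization.Away (Polynomial.X : Polynomial R)) :=
      IsLocalization.isDomain_localization (powers_le_nonZeroDivisors_of_noZeroDivisors hX)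
    have h2 : toS R a y = 0 := by
      have h3 := congrArg (toS R a) hy
      rw [map_mul, map_zero, mul_eq_zero] at h3
      rcases h3 with h3 | h3
      · exfalso
        have h4 : toS R a (uu R a - algebraMap R (W R a) c) =
            algebraMap (Polynomial R) (Localization.Away (Polynomial.X : Polynomial R))
              (Polynomial.X - Polynomial.C c) := by
          rw [map_sub, map_sub]
          simp [toS]
        rw [h4] at h3
        have h5 : (Polynomial.X - Polynomial.C c : Polynomial R) = 0 :=
          (IsLocalization.injective (Localization.Away (Polynomial.X : Polynomial R))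
            (powers_le_nonZeroDivisors_of_noZeroDivisors hX)) (by rw [h3, map_zero])
        exact Polynomial.X_sub_C_ne_zero c h5
      · exact h3
    let _ := (toS R a).toAlgebra
    have := isLocalization_toS R a
    obtain ⟨⟨_, n, rfl⟩, hm⟩ := (IsLocalization.map_eq_zero_iff
      (Submonoid.powers (uu R a)) (Localization.Away (Polynomial.X : Polynomial R)) y).1 h2
    have h6 := congrArg ρ hm
    rw [map_mul, map_zero] at h6
    simp only [map_pow] at h6
    rw [h] at h6
    rcases mul_eq_zero.1 h6 with h7 | h7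
    · exact pow_ne_zero n (hc c hc0) h7
    · exact hρy h7

end K4.FlatAlg
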